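import Groth.Agent.Lib.RegSeqLoc.Scheme
import Groth.Agent.Lib.CMFree.Params
import Groth.Agent.Lib.CodimExt27.Basic
import Groth.Agent.Lib.DimCut.Basic
import Groth.Agent.Lib.SerrePn27.CMDuality
import Groth.Agent.Lib.FundIso27.Iso
import Groth.Agent.Lib.RelExtTwist20.Basic
import Groth.Agent.Lib.ProjDim.Const
import Groth.Agent.Lib.ProjPic26.Relative
import Groth.Agent.Lib.ExtTilde20.Coh
import Groth.Agent.Lib.SerrePn27.Dualizing
import Groth.Agent.S10829

/-!
# The dualizing module of a local complete intersection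
-/

set_option autoImplicit false
set_option maxHeartbeats 1600000
set_option linter.style.haveILetI false
set_option backward.isDefEq.respectTransparency false

universe u

open CategoryTheory CategoryTheory.Limits AlgebraicGeometry Opposite TopologicalSpace
open RingTheory.Sequence

noncomputable section

namespace GrothLib.LciDual27

variable {k : Type u} [Field k]

theorem dim_components_proj (N : ℕ) (Z : Set ↥(CohB1.ProjSpace N k))
    (hZ : Z ∈ irreducibleComponents ↥(CohB1.ProjSpace N k)) : topologicalKrullDim ↥Z = (N : WithBot ℕ∞) := by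
  haveI : IsIntegral (CohB1.ProjSpace N k) := ProjDim.isIntegral_proj k N
  rw [irreducibleComponents_eq_singleton] at hZ
  obtain rfl : Z = Set.univ := hZ
  rw [IsHomeomorph.topologicalKrullDim_eq _ (Homeomorph.Set.univ (CohB1.ProjSpace N k)).isHomeomorph]
  exact Groth.Agent.S10829.result k N

/-- A closed subscheme of the expected dimension cut out by `r` equations is regularly immersed. -/
theorem isRegularImmersion {N r : ℕ} (hr : r ≤ N) {X : Scheme.{u}} (ι : X ⟶ CohB1.ProjSpace N k) [IsClosedImmersion ι]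
    (heq : ∀ Z : Set ↥X, Z ∈ irreducibleComponents ↥X → topologicalKrullDim ↥Z = ((N - r : ℕ) : WithBot ℕ∞))
    (hgen : ∀ x : X, ∃ U : (CohB1.ProjSpace N k).affineOpens, ι.base x ∈ (U : (CohB1.ProjSpace N k).Opens) ∧
      ∃ f : Fin r → Γ(CohB1.ProjSpace N k, (U : (CohB1.ProjSpace N k).Opens)),
        ι.ker.ideal U = Ideal.span (Set.range f)) :
    RegImm.IsRegularImmersionOfCodim RegImm.Kind.regular r ι := by
  haveI := Chow.isProper_toSpec N k
  haveI : IsLocallyNoetherian (CohB1.ProjSpace N k) :=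
    LocallyOfFiniteType.isLocallyNoetherian (CohB1.ProjSpace.toSpec N k)
  refine ⟨inferInstance, fun x => ?_⟩
  obtain ⟨U, hxU, f, hf⟩ := hgen x
  haveI := DualTF27.isRegular_projSpace k N (ι x)
  let φ := ((CohB1.ProjSpace N k).presheaf.germ U.1 (ι x) hxU).hom
  have hker : Ideal.ofList ((List.ofFn f).map φ) = RingHom.ker (ι.stalkMap x).hom := by
    rw [RegSeqLoc.ker_stalkMap ι x U hxU, hf, ← Ideal.map_ofList]
    congr 1
    simp [Ideal.ofList]
    rfl
  have hne : Ideal.ofList ((List.ofFn f).map φ) ≠ ⊤ := hker ▸ RingHom.ker_ne_top _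
  have hdim : ringKrullDim ((CohB1.ProjSpace N k).presheaf.stalk (ι x) ⧸ Ideal.ofList ((List.ofFn f).map φ)) +
      ((List.ofFn f).map φ).length ≤ ringKrullDim ((CohB1.ProjSpace N k).presheaf.stalk (ι x)) := by
    rw [ringKrullDim_eq_of_ringEquiv ((Ideal.quotEquivOfEq hker).trans
      (RingHom.quotientKerEquivOfSurjective (ι.stalkMap_surjective x))), List.length_map, List.length_ofFn]
    have h1 := CodimExt27.ptDim_add_dim_stalk (CohB1.ProjSpace.toSpec N k) (dim_components_proj N) (ι x)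
    have h2 := CodimExt27.ptDim_add_dim_stalk (ι ≫ CohB1.ProjSpace.toSpec N k) heq x
    rw [DimCut.ptDim_immersion (CohB1.ProjSpace.toSpec N k) ι x] at h2
    generalize AffDom.ptDim (ι x) = a at h1 h2
    generalize ringKrullDim ((CohB1.ProjSpace N k).presheaf.stalk (ι x)) = b at h1
    generalize ringKrullDim (X.presheaf.stalk x) = c at h2
    induction a using WithBot.recBotCoe with
    | bot => simp at h1
    | coe a =>
      induction b using WithBot.recBotCoe with
      | bot => simp at h1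
      | coe b =>
        induction c using WithBot.recBotCoe with
        | bot => simp at h2
        | coe c =>
          rw [← WithBot.coe_natCast, ← WithBot.coe_add, WithBot.coe_eq_coe] at h1 h2
          rw [← WithBot.coe_natCast, ← WithBot.coe_add, WithBot.coe_le_coe]
          induction a using ENat.recTopCoe with
          | top => simp at h1
          | coe a =>
            induction b using ENat.recTopCoe with
            | top => simp at h1
            | coe b =>
              induction c using ENat.recTopCoe with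
              | top => rw [add_top] at h2; exact absurd h2.symm (ENat.coe_ne_top _)
              | coe c =>
                norm_cast at h1 h2 ⊢
                omega
  have hreg := CMFree.isRegular_of_ringKrullDim_quotient _ _ hne hdim
  haveI := IsLocallyNoetherian.component_noetherian (X := CohB1.ProjSpace N k) U
  letI algX : Algebra Γ(CohB1.ProjSpace N k, U.1) ((CohB1.ProjSpace N k).presheaf.stalk (ι x)) :=
    TopCat.Presheaf.algebra_section_stalk (CohB1.ProjSpace N k).presheaf (⟨ι x, hxU⟩ : U.1)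
  haveI hloc := U.2.isLocalization_stalk ⟨ι x, hxU⟩
  obtain ⟨g, hg, hgB⟩ := RegSeqLoc.exists_away_isWeaklyRegular (U.2.primeIdealOf ⟨ι x, hxU⟩).asIdeal.primeCompl
    ((CohB1.ProjSpace N k).presheaf.stalk (ι x)) (List.ofFn f) hreg.toIsWeaklyRegular
  have hxg : ι x ∈ (CohB1.ProjSpace N k).basicOpen g :=
    (Scheme.mem_basicOpen _ _ _ hxU).2 (IsLocalization.map_units ((CohB1.ProjSpace N k).presheaf.stalk (ι x))
      (⟨g, hg⟩ : (U.2.primeIdealOf ⟨ι x, hxU⟩).asIdeal.primeCompl))
  let V : (CohB1.ProjSpace N k).affineOpens := ⟨(CohB1.ProjSpace N k).basicOpen g, U.2.basicOpen g⟩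
  letI : Algebra Γ(CohB1.ProjSpace N k, U.1) Γ(CohB1.ProjSpace N k, V.1) :=
    ((CohB1.ProjSpace N k).presheaf.map (homOfLE ((CohB1.ProjSpace N k).basicOpen_le g)).op).hom.toAlgebra
  haveI : IsLocalization.Away g Γ(CohB1.ProjSpace N k, V.1) := U.2.isLocalization_basicOpen _
  have hIV : RingHom.ker (ι.app V.1).hom =
      Ideal.ofList ((List.ofFn f).map (algebraMap Γ(CohB1.ProjSpace N k, U.1) Γ(CohB1.ProjSpace N k, V.1))) := by
    rw [← Scheme.Hom.ker_apply, ← ι.ker.map_ideal (U := V) (V := U) ((CohB1.ProjSpace N k).basicOpen_le g), hf,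
      ← Ideal.map_ofList]
    congr 1
    simp [Ideal.ofList]
    rfl
  refine ⟨V, hxg, inferInstance, _, by rw [List.length_map, List.length_ofFn],
    ⟨hgB (Submonoid.powers g) Γ(CohB1.ProjSpace N k, V.1) (IsLocalization.Away.algebraMap_isUnit _), fun htop => ?_⟩,
    hIV⟩
  rw [smul_eq_mul, Ideal.mul_top] at htop
  have h3 : Ideal.map ((CohB1.ProjSpace N k).presheaf.germ V.1 (ι x) hxg).hom
      (RingHom.ker (ι.app V.1).hom) = ⊤ := by
    rw [hIV, ← htop, Ideal.map_top]
  rw [← Scheme.Hom.ker_apply, ← RegSeqLoc.ker_stalkMap ι x V hxg] at h3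
  exact RingHom.ker_ne_top _ h3

/-- The dualizing property passes through isomorphisms. -/
theorem exists_dualizing_of_iso {X : Scheme.{u}} [X.Over (Spec (CommRingCat.of k))] {M ω : X.Modules} (e : M ≅ ω)
    {n : ℕ} (h : ∃ t : Coh.HH X ω n →ₗ[k] k, ∀ F : X.Modules, Coh.IsCoh F → ∀ ψ : Coh.HH X F n →ₗ[k] k,
      ∃! φ : F ⟶ ω, ∀ x : Coh.HH X F n,
        ψ x = t (Sheaf.H.map ((SheafOfModules.toSheaf X.ringCatSheaf).map φ) n x)) :
    ∃ t : Coh.HH X M n →ₗ[k] k, ∀ F : X.Modules, Coh.IsCoh F → ∀ ψ : Coh.HH X F n →ₗ[k] k,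
      ∃! φ : F ⟶ M, ∀ x : Coh.HH X F n,
        ψ x = t (Sheaf.H.map ((SheafOfModules.toSheaf X.ringCatSheaf).map φ) n x) := by
  obtain ⟨t, ht⟩ := h
  refine ⟨t ∘ₗ Cohom.hhMap k e.hom n, fun F hF ψ => ?_⟩
  obtain ⟨φ, hφ, huniq⟩ := ht F hF ψ
  have key : ∀ (χ : F ⟶ M) (x : Coh.HH X F n),
      (t ∘ₗ Cohom.hhMap k e.hom n) (Sheaf.H.map ((SheafOfModules.toSheaf X.ringCatSheaf).map χ) n x) =
        t (Sheaf.H.map ((SheafOfModules.toSheaf X.ringCatSheaf).map (χ ≫ e.hom)) n x) := fun χ x =>
    (congrArg t (Euler.hhMap_comp (A := k) χ e.hom n x)).symm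
  refine ⟨φ ≫ e.inv, fun x => ?_, fun χ hχ => ?_⟩
  · rw [key, Category.assoc, e.inv_hom_id, Category.comp_id]
    exact hφ x
  · rw [← cancel_mono e.hom, Category.assoc, e.inv_hom_id, Category.comp_id]
    exact huniq _ fun x => (hχ x).trans (key χ x)

theorem exists_dualizing_lci {N r : ℕ} (hr : r ≤ N) {X : Scheme.{u}} [X.Over (Spec (CommRingCat.of k))]
    (ι : X ⟶ CohB1.ProjSpace N k) [IsClosedImmersion ι]
    (hι : ι ≫ CohB1.ProjSpace.toSpec N k = X ↘ Spec (CommRingCat.of k))
    (heq : ∀ Z : Set ↥X, Z ∈ irreducibleComponents ↥X → topologicalKrullDim ↥Z = ((N - r : ℕ) : WithBot ℕ∞))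
    (hreg : RegImm.IsRegularImmersionOfCodim RegImm.Kind.regular r ι)
    {C : X.Modules} (hC : ExtPow.IsExtPow r (Omega.conormal ι) C) [DCoh.HasSheafHom C] :
    ∃ t : Coh.HH X (CohB1.tensorMod ((Scheme.Modules.pullback ι).obj (Twist.twistProjSpace N k (-((N : ℤ) + 1))))
        ((DCoh.sheafHom C).obj (Coh.structureModule X))) (N - r) →ₗ[k] k,
      ∀ F : X.Modules, Coh.IsCoh F → ∀ ψ : Coh.HH X F (N - r) →ₗ[k] k,
        ∃! φ : F ⟶ (CohB1.tensorMod ((Scheme.Modules.pullback ι).obj (Twist.twistProjSpace N k (-((N : ℤ) + 1))))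
            ((DCoh.sheafHom C).obj (Coh.structureModule X))), ∀ x : Coh.HH X F (N - r),
          ψ x = t (Sheaf.H.map ((SheafOfModules.toSheaf X.ringCatSheaf).map φ) (N - r) x) := by
  haveI := Chow.isProper_toSpec N k
  haveI : IsLocallyNoetherian (CohB1.ProjSpace N k) :=
    LocallyOfFiniteType.isLocallyNoetherian (CohB1.ProjSpace.toSpec N k)
  let P := CohB1.ProjSpace N k
  let W := (Scheme.Modules.pullback ι).obj (Twist.twistProjSpace N k (-((N : ℤ) + 1)))
  haveI : HasInjectiveResolutions (ModSite.Mod P.sheaf) := ExtTilde20.hasInjectiveResolutions_mod _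
  haveI : HasInjectiveResolutions P.Modules := ‹HasInjectiveResolutions (ModSite.Mod P.sheaf)›
  haveI : ModSite.HasSheafHom (O := P.sheaf) ((Scheme.Modules.pushforward ι).obj (Coh.structureModule X)) :=
    SheafCoh.hasSheafHom _ _
  haveI : ModSite.HasSheafHom (O := X.sheaf) C := RelExtTwist20.hasSheafHom C
  haveI : (Twist.twistProjSpace N k (-((N : ℤ) + 1))).IsQuasicoherent :=
    (Euler.isCoh_of_isInvertible (ProjPic26.isInvertible_twistProjSpace N k _)).1
  obtain ⟨φ, hφ⟩ := hC
  have hCf : FlatMod.IsFinLocFree C :=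
    Euler.isFinLocFree_of_isInvertible (FundIso27.isInvertible_L ι φ hφ hreg)
  let ω := (ModSite.sheafHom (O := X.sheaf) C).obj W
  obtain ⟨iso⟩ := FundIso27.nonempty_eSh_iso ι (Twist.twistProjSpace N k (-((N : ℤ) + 1))) φ hφ hreg
  let e : CohB1.tensorMod W ((DCoh.sheafHom C).obj (Coh.structureModule X)) ≅ ω :=
    (LocFreeDual20.dualIso hCf).app W ≪≫ ((LocFreeDual20.siteHomIso C).app W).symm
  refine exists_dualizing_of_iso e (SerrePn27.exists_dualizing (r := N - r) (c := r) (Nat.sub_add_cancel hr) ι hι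
    (SerrePn27.topologicalKrullDim_le_of_components fun Z hZ => (heq Z hZ).le) ω ⟨iso.symm⟩)

end GrothLib.LciDual27
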